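import Mathlib
import Groth.Agent.ClPush.FormalSys

/-!
Finite type descends along nilpotent thickenings of the base.
-/

set_option autoImplicit false
set_option linter.style.haveILetI false
set_option backward.isDefEq.respectTransparency false

universe u

open CategoryTheory CategoryTheory.Limits AlgebraicGeometry TensorProduct

namespace Groth.Agent.AlgSpThickUnr

theorem finiteType_of_nilpotent (A B : Type u) [CommRing A] [CommRing B] [Algebra A B] (I : Ideal A) (n : ℕ)
    (hn : I.map (algebraMap A B) ^ n = ⊥) [hft : Algebra.FiniteType A (B ⧸ I.map (algebraMap A B))] :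
    Algebra.FiniteType A B := by
  classical
  obtain ⟨s, hs⟩ := hft.out
  choose l hl using Ideal.Quotient.mkₐ_surjective A (I.map (algebraMap A B))
  let C := Algebra.adjoin A ((s.image l : Finset B) : Set B)
  have h1 : ∀ b : B, ∃ c ∈ C, b - c ∈ I.map (algebraMap A B) := by
    intro b
    have hb : Ideal.Quotient.mkₐ A (I.map (algebraMap A B)) b ∈
        C.map (Ideal.Quotient.mkₐ A (I.map (algebraMap A B))) := by
      rw [AlgHom.map_adjoin, Finset.coe_image, Set.image_image]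
      simp only [hl, Set.image_id']
      rw [hs]; trivial
    obtain ⟨c, hc, hcb⟩ := hb
    refine ⟨c, hc, ?_⟩
    rw [← Ideal.Quotient.eq_zero_iff_mem, map_sub, sub_eq_zero]
    exact hcb.symm
  have key : ∀ (k : ℕ) (b : B), ∃ c ∈ C, b - c ∈ I.map (algebraMap A B) ^ k := by
    intro k
    induction k with
    | zero => exact fun b => ⟨0, C.zero_mem, by simp⟩
    | succ k ih =>
      intro b
      obtain ⟨c, hc, hbc⟩ := ih b
      suffices ∀ x ∈ I.map (algebraMap A B) ^ k, ∃ c ∈ C, x - c ∈ I.map (algebraMap A B) ^ (k + 1) by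
        obtain ⟨c', hc', h'⟩ := this _ hbc
        exact ⟨c + c', C.add_mem hc hc', by rwa [← sub_sub]⟩
      intro x hx
      rw [← Ideal.map_pow, ← Submodule.restrictScalars_mem A, ← Ideal.smul_top_eq_map] at hx
      refine Submodule.smul_induction_on hx (fun a ha y _ => ?_) fun p q ⟨c, hc, hp⟩ ⟨c', hc', hq⟩ =>
        ⟨c + c', C.add_mem hc hc', by rw [add_sub_add_comm]; exact add_mem hp hq⟩
      obtain ⟨c', hc', hy⟩ := h1 y
      refine ⟨a • c', C.smul_mem hc' a, ?_⟩
      rw [← smul_sub, Algebra.smul_def, pow_succ]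
      exact Ideal.mul_mem_mul (by rw [← Ideal.map_pow]; exact Ideal.mem_map_of_mem _ ha) hy
  refine ⟨⟨s.image l, eq_top_iff.2 fun b _ => ?_⟩⟩
  obtain ⟨c, hc, hbc⟩ := key n b
  rw [hn, Ideal.mem_bot, sub_eq_zero] at hbc
  exact hbc ▸ hc

theorem ker_iso_comp {X Y Z : Scheme.{u}} (e : X ≅ Y) (f : Y ⟶ Z) : (e.hom ≫ f).ker = f.ker :=
  le_antisymm (by simpa using Scheme.Hom.le_ker_comp e.inv (e.hom ≫ f)) (Scheme.Hom.le_ker_comp _ _)

theorem ker_comp_iso_pow {X Y Z : Scheme.{u}} [IsAffine Y] [IsAffine Z] (f : X ⟶ Y) [QuasiCompact f] (e : Y ≅ Z)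
    (m : ℕ) (h : f.ker ^ m = ⊥) : (f ≫ e.hom).ker ^ m = ⊥ := by
  refine Scheme.IdealSheafData.ext_of_isAffine ?_
  have h0 : (f.ker ^ m).ideal ⟨⊤, isAffineOpen_top _⟩ = ⊥ := by rw [h]; rfl
  rw [Scheme.IdealSheafData.ideal_pow, Pi.pow_apply, f.ker_apply] at h0
  rw [Scheme.IdealSheafData.ideal_pow, Pi.pow_apply, Scheme.IdealSheafData.ideal_bot, Pi.bot_apply,
    (f ≫ e.hom).ker_apply]
  have hinj : Function.Injective (e.hom.app ⊤).hom := (ConcreteCategory.bijective_of_isIso _).1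
  refine (Ideal.map_eq_bot_iff_of_injective hinj).1 (eq_bot_iff.2 (le_trans ?_ h0.le))
  rw [Ideal.map_pow]
  refine pow_le_pow_left' (Ideal.map_le_iff_le_comap.2 fun x hx => ?_) m
  rw [Ideal.mem_comap, RingHom.mem_ker]
  rw [RingHom.mem_ker, Scheme.Hom.comp_app] at hx
  exact hx

/-- A morphism of affine schemes which is of finite type over a nilpotent thickening of the base is of finite type. -/
theorem locallyOfFiniteType_of_thick {A B : CommRingCat.{u}} (φ : A ⟶ B) {Y : Scheme.{u}} (j : Y ⟶ Spec A)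
    [IsClosedImmersion j] (n : ℕ) (hn : (pullback.fst (Spec.map φ) j).ker ^ (n + 1) = ⊥)
    [h : LocallyOfFiniteType (pullback.snd (Spec.map φ) j)] : LocallyOfFiniteType (Spec.map φ) := by
  obtain ⟨I, e, hj⟩ := IsClosedImmersion.Spec_iff.1 ‹IsClosedImmersion j›
  let q : CommRingCat.of ↥A ⟶ CommRingCat.of (↥A ⧸ I) := CommRingCat.ofHom (Ideal.Quotient.mk I)
  haveI : IsClosedImmersion (Spec.map q) := IsClosedImmersion.spec_of_surjective _ Ideal.Quotient.mk_surjective
  have sq : IsPullback (pullback.fst (Spec.map φ) j) (pullback.snd (Spec.map φ) j ≫ e.hom)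
      (Spec.map φ) (Spec.map q) :=
    IsPullback.of_iso (IsPullback.of_hasPullback (Spec.map φ) j) (Iso.refl _) (Iso.refl _) e (Iso.refl _)
      (by simp) (by simp) (by simp) (by simpa using hj)
  rw [← sq.isoPullback_hom_fst, ker_iso_comp] at hn
  algebraize [φ.hom]
  let iso := pullbackSpecIso ↥A ↥B (↥A ⧸ I)
  have hf : iso.inv ≫ pullback.fst (Spec.map φ) (Spec.map q) =
      Spec.map (CommRingCat.ofHom (algebraMap ↥B (↥B ⊗[↥A] (↥A ⧸ I)))) :=
    pullbackSpecIso_inv_fst' ↥A ↥B (↥A ⧸ I)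
  have hJ : RingHom.ker (algebraMap ↥B (↥B ⊗[↥A] (↥A ⧸ I))) = I.map (algebraMap ↥A ↥B) := by
    ext b
    rw [← (Algebra.TensorProduct.quotIdealMapEquivTensorQuot ↥B I).toAlgHom.comp_algebraMap,
      RingHom.mem_ker, RingHom.comp_apply]
    exact (map_eq_zero_iff _ (Algebra.TensorProduct.quotIdealMapEquivTensorQuot ↥B I).injective).trans
      Ideal.Quotient.eq_zero_iff_mem
  have hk : I.map (algebraMap ↥A ↥B) ^ (n + 1) = ⊥ := by
    have h0 := congrArg (fun K : (Spec B).IdealSheafData => K.ideal ⟨⊤, isAffineOpen_top _⟩) hn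
    rw [← ker_iso_comp iso.symm, Iso.symm_hom, hf] at h0
    simp only [Scheme.IdealSheafData.ideal_pow, Pi.pow_apply, ClPush.ker_specMap_ideal_top,
      Scheme.IdealSheafData.ideal_bot, Pi.bot_apply, CommRingCat.hom_ofHom, hJ, ← Ideal.map_pow] at h0
    rw [← Ideal.map_pow]
    exact (Ideal.map_eq_bot_iff_of_injective (ConcreteCategory.bijective_of_isIso _).1).1 h0
  haveI : LocallyOfFiniteType (Spec.map (CommRingCat.ofHom (algebraMap ↥A (↥B ⊗[↥A] (↥A ⧸ I))))) := by
    have h2 : LocallyOfFiniteType (pullback.fst (Spec.map φ) (Spec.map q) ≫ Spec.map φ) := by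
      rw [pullback.condition, ← sq.isoPullback_inv_snd]
      infer_instance
    have : CommRingCat.ofHom (algebraMap ↥A (↥B ⊗[↥A] (↥A ⧸ I))) =
        φ ≫ CommRingCat.ofHom (algebraMap ↥B (↥B ⊗[↥A] (↥A ⧸ I))) :=
      CommRingCat.hom_ext (IsScalarTower.algebraMap_eq ↥A ↥B _)
    rw [this, Spec.map_comp, ← hf, Category.assoc]
    infer_instance
  haveI : Algebra.FiniteType ↥A (↥B ⊗[↥A] (↥A ⧸ I)) :=
    RingHom.finiteType_algebraMap.1 ((HasRingHomProperty.Spec_iff (P := @LocallyOfFiniteType)).1 this)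
  haveI : Algebra.FiniteType ↥A (↥B ⧸ I.map (algebraMap ↥A ↥B)) :=
    Algebra.FiniteType.equiv ‹_› ((Algebra.TensorProduct.quotIdealMapEquivTensorQuot ↥B I).symm.restrictScalars ↥A)
  exact (HasRingHomProperty.Spec_iff (P := @LocallyOfFiniteType)).2
    (finiteType_of_nilpotent ↥A ↥B I (n + 1) hk : Algebra.FiniteType ↥A ↥B)

end Groth.Agent.AlgSpThickUnr
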