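import Groth.Agent.FlatBasics.DeformFlat
import Groth.Agent.AlgSpThickUnr.FiniteType
import Groth.Agent.AlgSpLoc.FlatLocusSp
import Groth.Agent.AlgSpc.EtLocInst
import Groth.Agent.AlgSpc.FibreProd
import Groth.Prelude.Def_AlgSpInf

/-!
Flat deformations along finite order thickenings of algebraic spaces.
-/

set_option autoImplicit false
set_option linter.style.haveILetI false
set_option backward.isDefEq.respectTransparency false

universe u

open CategoryTheory CategoryTheory.Limits AlgebraicGeometry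

namespace Groth.Agent.AlgSpThickUnr

open _root_.AlgSp Groth.Agent.AlgSpc

theorem locallyOfFiniteType_of_deform {X X' Y Y' S S' : Scheme.{u}} {iX : X ⟶ X'} {iY : Y ⟶ Y'} {iS : S ⟶ S'}
    {f : X ⟶ Y} {f' : X' ⟶ Y'} {g : Y ⟶ S} {g' : Y' ⟶ S'} [IsClosedImmersion iS] (hn : IsNilpotent iS.ker)
    (hcX : IsPullback iX (f ≫ g) (f' ≫ g') iS) (hcY : IsPullback iY g g' iS)
    (w : iX ≫ f' = f ≫ iY) [Flat (f' ≫ g')] [LocallyOfFiniteType f] : LocallyOfFiniteType f' := by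
  have : IsClosedImmersion iY := MorphismProperty.of_isPullback hcY.flip inferInstance
  have : IsClosedImmersion iX :=
    MorphismProperty.of_isPullback (FlatBasics.isPullback_left_square hcX hcY w).flip inferInstance
  refine (HasRingHomProperty.iff_exists_appLE (P := @LocallyOfFiniteType)
    (RingHom.finiteType_stableUnderComposition.stableUnderCompositionWithLocalizationAway
      RingHom.finiteType_holdsForLocalizationAway).1).mpr fun x' ↦ ?_
  obtain ⟨U, V, hxV, e, e₀, R, γ, I, hpo, hI, hker, -⟩ := FlatBasics.exists_chart_algebra hn hcX hcY w x'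
  refine ⟨U, V, hxV, e, ?_⟩
  have hk := FpqcDescent.ker_eq_map_of_isPushout hpo (iY.app_surjective _ U.2)
  have hcomp : ((f'.appLE U.1 V.1 e) ≫ iX.app V.1).hom.FiniteType := by
    rw [hpo.w, CommRingCat.hom_comp]
    exact RingHom.FiniteType.comp (f.finiteType_appLE (U.2.preimage iY) (V.2.preimage iX) e₀)
      (RingHom.FiniteType.of_surjective _ (iY.app_surjective _ U.2))
  obtain ⟨n, hn'⟩ := hI
  algebraize [(f'.appLE U.1 V.1 e).hom, ((f'.appLE U.1 V.1 e) ≫ iX.app V.1).hom]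
  let π : Γ(X', V.1) →ₐ[Γ(Y', U.1)] Γ(X, iX ⁻¹ᵁ V.1) := ⟨(iX.app V.1).hom, fun _ => rfl⟩
  have hπ : Function.Surjective π := iX.app_surjective _ V.2
  have hk' : RingHom.ker π = (RingHom.ker (iY.app U.1).hom).map (algebraMap Γ(Y', U.1) Γ(X', V.1)) := hk
  haveI : Algebra.FiniteType Γ(Y', U.1) (Γ(X', V.1) ⧸ (RingHom.ker (iY.app U.1).hom).map (algebraMap Γ(Y', U.1) Γ(X', V.1))) :=
    Algebra.FiniteType.equiv ‹_› ((Ideal.quotientEquivAlgOfEq Γ(Y', U.1) hk').symm.trans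
      (Ideal.quotientKerAlgEquivOfSurjective hπ)).symm
  exact finiteType_of_nilpotent Γ(Y', U.1) Γ(X', V.1) (RingHom.ker (iY.app U.1).hom) n (by
    rw [hker, ← Ideal.map_pow, ← Ideal.map_pow, hn', Ideal.zero_eq_bot, Ideal.map_bot, Ideal.map_bot])

variable {S : Scheme.{u}}

theorem isNilpotent_ker_of_isNThickMor {B B' : Sp S} {i : B ⟶ B'} {n : ℕ} (hi : IsNThickMor n i)
    {W W0 : Over S} {c : (yon S).obj W ⟶ B'} (hc : RepWith @Etale c) {t : (yon S).obj W0 ⟶ B} {s : W0 ⟶ W}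
    (sq : IsPullback t ((yon S).map s) i c) : IsNilpotent s.left.ker := by
  haveI : IsClosedImmersion s.left := (hi.1.2 _ _ _ sq).1
  refine ⟨n + 1, Scheme.IdealSheafData.ext (funext fun O => ?_)⟩
  rw [Scheme.IdealSheafData.ideal_pow, Pi.pow_apply, Scheme.IdealSheafData.zero_eq_bot,
    Scheme.IdealSheafData.ideal_bot, Pi.bot_apply]
  let WO : Over S := Over.mk (O.1.ι ≫ W.hom)
  let o : WO ⟶ W := Over.homMk O.1.ι rfl
  haveI : IsAffine WO.left := O.2
  have hco : RepWith @Etale ((yon S).map o ≫ c) :=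
    repWith_comp ((repWith_yon_map_iff @Etale o).2 (inferInstanceAs (Etale O.1.ι))) hc
  let V : Over S := Over.mk (pullback.fst O.1.ι s.left ≫ WO.hom)
  let p : V ⟶ WO := Over.homMk (pullback.fst O.1.ι s.left) rfl
  let q : V ⟶ W0 := Over.homMk (pullback.snd O.1.ι s.left) (by
    change _ = pullback.fst O.1.ι s.left ≫ O.1.ι ≫ W.hom
    rw [← Over.w s, pullback.condition_assoc])
  have sV : IsPullback q.left p.left s.left o.left := (IsPullback.of_hasPullback O.1.ι s.left).flip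
  have sbig : IsPullback ((yon S).map q ≫ t) ((yon S).map p) i ((yon S).map o ≫ c) :=
    ((AlgSpLoc.isPullback_over sV).map (yon S)).paste_horiz sq
  have h0 : (pullback.fst O.1.ι s.left).ker ^ (n + 1) = ⊥ := hi.2 _ _ p O.2 hco sbig
  rw [Scheme.IdealSheafData.ker_fst_of_isClosedImmersion] at h0
  have h1 : ((s.left.ker.comap O.1.ι) ^ (n + 1)).ideal ⟨⊤, isAffineOpen_top _⟩ = ⊥ := by rw [h0]; rfl
  rw [Scheme.IdealSheafData.ideal_pow, Pi.pow_apply, Scheme.IdealSheafData.ideal_comap_of_isOpenImmersion] at h1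
  have hU : (⟨O.1.ι ''ᵁ ⊤, (isAffineOpen_top _).image_of_isOpenImmersion O.1.ι⟩ : W.left.affineOpens) = O :=
    Subtype.ext O.1.ι_image_top
  rw [← hU]
  set J := s.left.ker.ideal ⟨O.1.ι ''ᵁ ⊤, (isAffineOpen_top _).image_of_isOpenImmersion O.1.ι⟩
  have hb : Function.Bijective (O.1.ι.appIso ⊤).inv.hom := ConcreteCategory.bijective_of_isIso _
  rw [← Ideal.map_comap_of_surjective _ hb.2 J, ← Ideal.map_pow]
  refine eq_bot_iff.2 ?_
  erw [h1]
  rw [Ideal.map_bot]

variable {X X' Y Y' B B' : Space S} {iX : X ⟶ X'} {iY : Y ⟶ Y'} {iB : B ⟶ B'}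
  {f : X ⟶ Y} {f' : X' ⟶ Y'} {g : Y ⟶ B} {g' : Y' ⟶ B'}

/-- Charts for a flat deformation. -/
theorem exists_deform_charts
    (hcX : IsPullback iX.hom (f ≫ g).hom (f' ≫ g').hom iB.hom) (hcY : IsPullback iY.hom g.hom g'.hom iB.hom)
    (w : iX ≫ f' = f ≫ iY) (hB : IsFinThickMor iB.hom) (hflat : LocP @Flat (f' ≫ g').hom) :
    ∃ (U V U0 V0 W W0 : Over S) (a : (yon S).obj U ⟶ X'.obj) (b : (yon S).obj V ⟶ Y'.obj)
      (a0 : (yon S).obj U0 ⟶ X.obj) (b0 : (yon S).obj V0 ⟶ Y.obj) (c : (yon S).obj W ⟶ B'.obj) (k : U ⟶ V) (k0 : U0 ⟶ V0)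
      (h : V ⟶ W) (h0 : V0 ⟶ W0) (wU : U0 ⟶ U) (wV : V0 ⟶ V) (s : W0 ⟶ W),
      RepWith @Etale a ∧ RepWith @Surjective a ∧ RepWith @Etale b ∧ RepWith @Etale a0 ∧ RepWith @Etale b0 ∧
      RepWith @Etale c ∧
      a ≫ f'.hom = (yon S).map k ≫ b ∧ a0 ≫ f.hom = (yon S).map k0 ≫ b0 ∧ b ≫ g'.hom = (yon S).map h ≫ c ∧
      IsClosedImmersion s.left ∧ Surjective s.left ∧ IsNilpotent s.left.ker ∧
      IsPullback wU.left (k0.left ≫ h0.left) (k.left ≫ h.left) s.left ∧
      IsPullback wV.left h0.left h.left s.left ∧ wU.left ≫ k.left = k0.left ≫ wV.left ∧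
      Flat (k.left ≫ h.left) := by
  obtain ⟨n, hn⟩ := hB
  have hcart : IsPullback iX.hom f.hom f'.hom iY.hom :=
    IsPullback.of_bot hcX (congrArg (fun k => k.hom) w) hcY
  obtain ⟨W, c, hc, hcs⟩ := B'.property.atlas
  obtain ⟨W0, t, s, sqs⟩ := exists_sq hn.1.1 c
  have ht : RepWith @Etale t := repWith_of_isPullback sqs.flip hc
  have sY := IsPullback.of_hasPullback g'.hom c
  obtain ⟨V, b₀, hb₀, hb₀s⟩ :=
    (isAlgSpace_of_isPullback Y'.property B'.property (IsAlgSpace.yon_obj W) sY).atlas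
  let b := b₀ ≫ pullback.fst g'.hom c
  let h : V ⟶ W := pre (b₀ ≫ pullback.snd g'.hom c)
  have hb : RepWith @Etale b := repWith_comp hb₀ (repWith_of_isPullback sY.flip hc)
  have hbs : RepWith @Surjective b := repWith_comp hb₀s (repWith_of_isPullback sY.flip hcs)
  have wh : b ≫ g'.hom = (yon S).map h ≫ c := by rw [map_pre, Category.assoc, Category.assoc, sY.w]
  let V0 : Over S := Over.mk (pullback.snd h.left s.left ≫ W0.hom)
  let h0 : V0 ⟶ W0 := Over.homMk (pullback.snd h.left s.left) rfl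
  let wV : V0 ⟶ V := Over.homMk (pullback.fst h.left s.left) (by
    change _ = pullback.snd h.left s.left ≫ W0.hom
    rw [← Over.w h, ← Over.w s, pullback.condition_assoc])
  have sV : IsPullback wV.left h0.left h.left s.left := IsPullback.of_hasPullback _ _
  obtain ⟨b0, hb0, hb0s, -, wb0⟩ := AlgSpLoc.exists_chart_baseChange hcY sqs.w ht
    (repWith_of_isPullback sqs.flip hcs) hb₀ hb₀s (map_pre _).symm sV
  have sX := IsPullback.of_hasPullback f'.hom b
  obtain ⟨U, a₀, ha₀, ha₀s⟩ :=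
    (isAlgSpace_of_isPullback X'.property Y'.property (IsAlgSpace.yon_obj V) sX).atlas
  let k : U ⟶ V := pre (a₀ ≫ pullback.snd f'.hom b)
  have wk : (a₀ ≫ pullback.fst f'.hom b) ≫ f'.hom = (yon S).map k ≫ b := by
    rw [map_pre, Category.assoc, Category.assoc, sX.w]
  have ha := repWith_comp ha₀ (repWith_of_isPullback sX.flip hb)
  let U0 : Over S := Over.mk (pullback.snd k.left wV.left ≫ V0.hom)
  let k0 : U0 ⟶ V0 := Over.homMk (pullback.snd k.left wV.left) rfl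
  let wU : U0 ⟶ U := Over.homMk (pullback.fst k.left wV.left) (by
    change _ = pullback.snd k.left wV.left ≫ V0.hom
    rw [← Over.w k, ← Over.w wV, pullback.condition_assoc])
  have sU : IsPullback wU.left k0.left k.left wV.left := IsPullback.of_hasPullback _ _
  obtain ⟨a0, ha0, -, wa0, -⟩ := AlgSpLoc.exists_chart_baseChange hcart wb0 hb0 hb0s ha₀ ha₀s (map_pre _).symm sU
  have hfl : Flat (k ≫ h).left := hflat (a₀ ≫ pullback.fst f'.hom b) c (k ≫ h) ha hc (by
    rw [ObjectProperty.FullSubcategory.comp_hom, ← Category.assoc, wk, Category.assoc, wh, Functor.map_comp,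
      Category.assoc])
  exact ⟨U, V, U0, V0, W, W0, a₀ ≫ pullback.fst f'.hom b, b, a0, b0, c, k, k0, h, h0, wU, wV, s, ha,
    repWith_comp ha₀s (repWith_of_isPullback sX.flip hbs), hb, ha0, hb0, hc, wk, wa0, wh,
    (hn.1.2 _ _ _ sqs).1, (hn.1.2 _ _ _ sqs).2, isNilpotent_ker_of_isNThickMor hn hc sqs,
    sU.paste_vert sV, sV, sU.w, hfl⟩

theorem locP_of_deform {P : MorphismProperty Scheme.{u}} [EtLoc P]
    (hP : ∀ {X X' Y Y' T T' : Scheme.{u}} {iX : X ⟶ X'} {iY : Y ⟶ Y'} {iS : T ⟶ T'} {f : X ⟶ Y} {f' : X' ⟶ Y'}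
      {g : Y ⟶ T} {g' : Y' ⟶ T'} [IsClosedImmersion iS] [Surjective iS], IsNilpotent iS.ker →
      IsPullback iX (f ≫ g) (f' ≫ g') iS → IsPullback iY g g' iS → iX ≫ f' = f ≫ iY → Flat (f' ≫ g') → P f → P f')
    (hcX : IsPullback iX.hom (f ≫ g).hom (f' ≫ g').hom iB.hom) (hcY : IsPullback iY.hom g.hom g'.hom iB.hom)
    (w : iX ≫ f' = f ≫ iY) (hB : IsFinThickMor iB.hom) (hflat : LocP @Flat (f' ≫ g').hom)
    (hf : LocP P f.hom) : LocP P f'.hom := by
  obtain ⟨U, V, U0, V0, W, W0, a, b, a0, b0, c, k, k0, h, h0, wU, wV, s, ha, has, hb, ha0, hb0, -, wk, wk0, -,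
    hs, hss, hn, sX, sY, hw, hfl⟩ := exists_deform_charts hcX hcY w hB hflat
  haveI := hs
  haveI := hss
  exact locP_of_chart ha has hb wk (hP hn sX sY hw hfl (hf a0 b0 k0 ha0 hb0 wk0))

end Groth.Agent.AlgSpThickUnr
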