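import Groth.Agent.SmoothPt.Basic
import Groth.Agent.Unram.Pointwise
import Groth.Agent.AlgSpc.LocP
import Groth.Prelude.Def_AlgSpInf

/-!
Fibres along thickenings, and descent of smoothness.
-/

set_option autoImplicit false
set_option linter.style.haveILetI false
set_option backward.isDefEq.respectTransparency false

universe u

open CategoryTheory CategoryTheory.Limits AlgebraicGeometry

namespace Groth.Agent.AlgSpThickUnr

theorem exists_lift_reduced {T T0 R : Scheme.{u}} [IsReduced R] (s : T0 ⟶ T) [IsClosedImmersion s] [Surjective s]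
    (r : R ⟶ T) : ∃ r' : R ⟶ T0, r' ≫ s = r := by
  haveI : IsClosedImmersion (pullback.fst r s) := MorphismProperty.pullback_fst _ _ ‹_›
  haveI : Surjective (pullback.fst r s) := MorphismProperty.pullback_fst _ _ ‹_›
  haveI : IsIso (pullback.fst r s) := isIso_of_isClosedImmersion_of_surjective _
  exact ⟨inv (pullback.fst r s) ≫ pullback.snd r s, by rw [Category.assoc, ← pullback.condition]; simp⟩

/-- A flat morphism of finite presentation which is smooth over a thickening of the base is smooth. -/
theorem smooth_of_thick {W T T0 : Scheme.{u}} (k : W ⟶ T) [Flat k] [LocallyOfFinitePresentation k] (s : T0 ⟶ T)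
    [IsClosedImmersion s] [Surjective s] [h : Smooth (pullback.snd k s)] : Smooth k := by
  refine Scheme.Hom.smoothLocus_eq_top_iff.1 (eq_top_iff.2 fun x _ => ?_)
  obtain ⟨r, hr⟩ := exists_lift_reduced s (T.fromSpecResidueField (k x))
  have sq : IsPullback (k.fiberι (k x)) (k.fiberToSpecResidueField (k x)) k (r ≫ s) := by
    rw [hr]; exact IsPullback.of_hasPullback _ _
  haveI : Smooth (k.fiberToSpecResidueField (k x)) :=
    MorphismProperty.of_isPullback (P := @Smooth)
      (IsPullback.of_right (by rw [pullback.lift_fst]; exact sq) (pullback.lift_snd _ _ (by rw [sq.w, Category.assoc]))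
        (IsPullback.of_hasPullback k s)) h
  exact SmoothPt.mem_smoothLocus_of_flat_of_fiber (f := k) (Flat.stalkMap k x)
    (by rw [Scheme.Hom.smoothLocus_eq_top]; trivial)

variable {S : Scheme.{u}}

open _root_.AlgSp Groth.Agent.AlgSpc in
theorem exists_fieldPt_lift {B B' : Sp S} {i : B ⟶ B'} (hi : IsThickMor i) {K : Type u} [Field K]
    {sK : Spec (CommRingCat.of K) ⟶ S} (z : (yon S).obj (Over.mk sK) ⟶ B') :
    ∃ zB : (yon S).obj (Over.mk sK) ⟶ B, zB ≫ i = z := by
  obtain ⟨V, fst, v, sq⟩ := exists_sq hi.1 z
  haveI : IsClosedImmersion v.left := (hi.2 _ _ _ sq).1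
  haveI : Surjective v.left := (hi.2 _ _ _ sq).2
  haveI : IsReduced (Over.mk sK).left := inferInstanceAs (IsReduced (Spec (CommRingCat.of K)))
  haveI : IsIso v.left := isIso_of_isClosedImmersion_of_surjective _
  haveI : IsIso ((Over.forget S).map v) := ‹IsIso v.left›
  haveI : IsIso v := isIso_of_reflects_iso v (Over.forget S)
  refine ⟨(yon S).map (inv v) ≫ fst, ?_⟩
  rw [Category.assoc, sq.w, ← Category.assoc, ← Functor.map_comp, IsIso.inv_hom_id,
    CategoryTheory.Functor.map_id, Category.id_comp]

end Groth.Agent.AlgSpThickUnr
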