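import Mathlib

/-!
Unramifiedness descends along nilpotent thickenings of the base.
-/

set_option autoImplicit false
set_option linter.style.haveILetI false
set_option backward.isDefEq.respectTransparency false

universe u

open CategoryTheory CategoryTheory.Limits AlgebraicGeometry TensorProduct

namespace Groth.Agent.AlgSpThickUnr

attribute [local instance] Algebra.TensorProduct.rightAlgebra

theorem formallyUnramified_of_quotient (A B : Type u) [CommRing A] [CommRing B] [Algebra A B]
    [Algebra.FiniteType A B] (I : Ideal A) (hI : I ≤ nilradical A)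
    [Algebra.FormallyUnramified (A ⧸ I) ((A ⧸ I) ⊗[A] B)] : Algebra.FormallyUnramified A B := by
  let e := KaehlerDifferential.tensorKaehlerEquivBase A (A ⧸ I) B ((A ⧸ I) ⊗[A] B)
  have h1 : Subsingleton ((A ⧸ I) ⊗[A] Ω[B⁄A]) := e.toEquiv.subsingleton
  have h2 : (I • ⊤ : Submodule A Ω[B⁄A]) = ⊤ :=
    Submodule.Quotient.subsingleton_iff.1 (TensorProduct.quotTensorEquivQuotSMul Ω[B⁄A] I).symm.toEquiv.subsingleton
  have h3 : (⊤ : Submodule B Ω[B⁄A]) ≤ I.map (algebraMap A B) • ⊤ := by
    intro x _
    have : x ∈ (I • ⊤ : Submodule A Ω[B⁄A]) := h2.symm ▸ Submodule.mem_top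
    refine Submodule.smul_induction_on this (fun a ha y _ => ?_) fun _ _ hp hq => add_mem hp hq
    rw [← algebraMap_smul B a y]
    exact Submodule.smul_mem_smul (Ideal.mem_map_of_mem _ ha) Submodule.mem_top
  have h4 : I.map (algebraMap A B) ≤ (⊥ : Ideal B).jacobson := by
    refine Ideal.map_le_iff_le_comap.2 fun a ha => ?_
    have hn : algebraMap A B a ∈ nilradical B := mem_nilradical.2 ((mem_nilradical.1 (hI ha)).map _)
    exact Ideal.radical_le_jacobson hn
  refine ⟨Submodule.subsingleton_iff B |>.1 ⟨fun p q => ?_⟩⟩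
  have := Submodule.eq_bot_of_le_smul_of_le_jacobson_bot (I.map (algebraMap A B)) (⊤ : Submodule B Ω[B⁄A])
    Module.Finite.fg_top h3 h4
  exact (le_bot_iff.1 ((le_top : p ≤ ⊤).trans this.le)).trans (le_bot_iff.1 ((le_top : q ≤ ⊤).trans this.le)).symm

/-- A morphism which is unramified over a thickening of the base is unramified. -/
theorem formallyUnramified_of_thick {X' Y' Y : Scheme.{u}} (f' : X' ⟶ Y') [LocallyOfFiniteType f']
    (j : Y ⟶ Y') [IsClosedImmersion j] [Surjective j] [h : FormallyUnramified (pullback.snd f' j)] :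
    FormallyUnramified f' := by
  wlog hY : ∃ A, Y' = Spec A generalizing X' Y' Y
  · rw [IsZariskiLocalAtTarget.iff_of_openCover (P := @FormallyUnramified) Y'.affineCover]
    intro i
    dsimp only [Scheme.Cover.pullbackHom]
    let c := Y'.affineCover.f i
    haveI hc1 : IsClosedImmersion (pullback.snd j c) := MorphismProperty.pullback_snd _ _ ‹_›
    haveI hc2 : Surjective (pullback.snd j c) := MorphismProperty.pullback_snd _ _ ‹_›
    haveI hc3 : LocallyOfFiniteType (pullback.snd f' c) := MorphismProperty.pullback_snd _ _ ‹_›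
    haveI hu : FormallyUnramified (pullback.snd (pullback.snd f' c) (pullback.snd j c)) := by
      have sq : IsPullback (pullback.fst (pullback.snd f' c) (pullback.snd j c) ≫ pullback.fst f' c)
          (pullback.snd (pullback.snd f' c) (pullback.snd j c)) f' (pullback.fst j c ≫ j) := by
        rw [pullback.condition]
        exact (IsPullback.of_hasPullback _ _).paste_horiz (IsPullback.of_hasPullback f' c)
      exact MorphismProperty.of_isPullback (P := @FormallyUnramified)
        (IsPullback.of_right (by rw [pullback.lift_fst]; exact sq) (pullback.lift_snd _ _ (by rw [sq.w, Category.assoc]))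
          (IsPullback.of_hasPullback f' j)) h
    exact this (pullback.snd f' c) (pullback.snd j c) ⟨_, rfl⟩
  obtain ⟨A, rfl⟩ := hY
  wlog hX : ∃ B, X' = Spec B generalizing X'
  · rw [IsZariskiLocalAtSource.iff_of_openCover (P := @FormallyUnramified) X'.affineCover]
    intro i
    let e := X'.affineCover.f i
    haveI hu : FormallyUnramified (pullback.snd (e ≫ f') j) := by
      let m := pullback.map (e ≫ f') j f' j e (𝟙 _) (𝟙 _) (by simp) (by simp)
      haveI : IsOpenImmersion m := Scheme.pullback_map_isOpenImmersion _ _ _ _ _ _ _ _ _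
      rw [show pullback.snd (e ≫ f') j = m ≫ pullback.snd f' j by
        rw [pullback.lift_snd, Category.comp_id]]
      exact MorphismProperty.comp_mem @FormallyUnramified m _ inferInstance h
    exact this (e ≫ f') ⟨_, rfl⟩
  obtain ⟨B, rfl⟩ := hX
  obtain ⟨φ, rfl⟩ : ∃ φ, Spec.map φ = f' := ⟨_, Spec.map_preimage f'⟩
  obtain ⟨I, e, hj⟩ := IsClosedImmersion.Spec_iff.1 ‹IsClosedImmersion j›
  let q : CommRingCat.of ↥A ⟶ CommRingCat.of (↥A ⧸ I) := CommRingCat.ofHom (Ideal.Quotient.mk I)
  have hI : I ≤ nilradical ↥A := by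
    intro a ha
    rw [nilradical_eq_sInf, Ideal.mem_sInf]
    intro p hp
    haveI : p.IsPrime := hp
    obtain ⟨y, hy⟩ := j.surjective ⟨p, hp⟩
    rw [hj, Scheme.Hom.comp_apply] at hy
    obtain rfl : ((e.hom y).asIdeal.comap (Ideal.Quotient.mk I)) = p := congrArg PrimeSpectrum.asIdeal hy
    rw [Ideal.mem_comap, Ideal.Quotient.eq_zero_iff_mem.2 ha]
    exact zero_mem _
  algebraize [φ.hom]
  haveI : Algebra.FiniteType ↥A ↥B :=
    (HasRingHomProperty.Spec_iff (P := @LocallyOfFiniteType)).1 ‹LocallyOfFiniteType (Spec.map φ)›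
  haveI h' : FormallyUnramified (pullback.snd (Spec.map φ) (Spec.map q)) := by
    have sq : IsPullback (pullback.fst (Spec.map φ) j) (pullback.snd (Spec.map φ) j ≫ e.hom)
        (Spec.map φ) (Spec.map q) :=
      IsPullback.of_iso (IsPullback.of_hasPullback (Spec.map φ) j) (Iso.refl _) (Iso.refl _) e (Iso.refl _)
        (by simp) (by simp) (by simp) (by simpa using hj)
    rw [← sq.isoPullback_inv_snd]
    exact (MorphismProperty.cancel_left_of_respectsIso @FormallyUnramified _ _).2
      ((MorphismProperty.cancel_right_of_respectsIso @FormallyUnramified _ _).2 h)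
  haveI : Algebra.FormallyUnramified (↥A ⧸ I) ((↥A ⧸ I) ⊗[↥A] ↥B) := by
    have h2 : FormallyUnramified (Spec.map (CommRingCat.ofHom
        (Algebra.TensorProduct.includeLeftRingHom (R := ↥A) (A := ↥A ⧸ I) (B := ↥B)))) := by
      rw [← pullbackSpecIso_inv_fst ↥A (↥A ⧸ I) ↥B]
      have : FormallyUnramified (pullback.fst (Spec.map (CommRingCat.ofHom (algebraMap ↥A (↥A ⧸ I))))
          (Spec.map (CommRingCat.ofHom (algebraMap ↥A ↥B)))) := by
        rw [← pullbackSymmetry_hom_comp_snd]
        exact (MorphismProperty.cancel_left_of_respectsIso @FormallyUnramified _ _).2 h'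
      exact (MorphismProperty.cancel_left_of_respectsIso @FormallyUnramified _ _).2 this
    exact RingHom.formallyUnramified_algebraMap.1 ((HasRingHomProperty.Spec_iff (P := @FormallyUnramified)).1 h2)
  haveI := formallyUnramified_of_quotient ↥A ↥B I hI
  exact (HasRingHomProperty.Spec_iff (P := @FormallyUnramified)).2 ‹Algebra.FormallyUnramified ↥A ↥B›

end Groth.Agent.AlgSpThickUnr
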