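import Groth.Agent.AlgSpThickUnr.Space
import Groth.Agent.AlgSpThickUnr.Fibres
import Groth.Agent.AlgSpThickUnr.Scheme
import Groth.Agent.S9955

/-!
Monomorphisms along thickenings of the base, for morphisms locally of finite type.
-/

set_option autoImplicit false
set_option linter.style.haveILetI false
set_option backward.isDefEq.respectTransparency false

universe u

open CategoryTheory CategoryTheory.Limits AlgebraicGeometry

namespace Groth.Agent.AlgSpThickUnr

open _root_.AlgSp Groth.Agent.AlgSpc

theorem mono_of_thick_base {W T T0 : Scheme.{u}} (k : W ⟶ T) [LocallyOfFiniteType k] (s : T0 ⟶ T)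
    [IsClosedImmersion s] [Surjective s] [Mono (pullback.snd k s)] : Mono k := by
  haveI : FormallyUnramified (pullback.snd k s) := inferInstance
  haveI : FormallyUnramified k := formallyUnramified_of_thick k s
  haveI : Surjective (pullback.diagonal k) := by
    refine ⟨fun z => ?_⟩
    let R := (pullback k k).fromSpecResidueField z
    obtain ⟨r, hr⟩ := exists_lift_reduced s (R ≫ pullback.fst k k ≫ k)
    let a : Spec ((pullback k k).residueField z) ⟶ pullback k s :=
      pullback.lift (R ≫ pullback.fst k k) r (by rw [hr, Category.assoc])
    let b : Spec ((pullback k k).residueField z) ⟶ pullback k s :=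
      pullback.lift (R ≫ pullback.snd k k) r (by rw [hr, pullback.condition, Category.assoc])
    have hab : a = b := (cancel_mono (pullback.snd k s)).1 ((pullback.lift_snd _ _ _).trans (pullback.lift_snd _ _ _).symm)
    have he : (R ≫ pullback.fst k k) ≫ pullback.diagonal k = R := by
      apply pullback.hom_ext
      · rw [Category.assoc, pullback.diagonal_fst, Category.comp_id]
      · rw [Category.assoc, pullback.diagonal_snd, Category.comp_id]
        have := congrArg (fun m => m ≫ pullback.fst k s) hab
        simpa [a, b, pullback.lift_fst] using this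
    refine ⟨(R ≫ pullback.fst k k) (IsLocalRing.closedPoint _), ?_⟩
    rw [← Scheme.Hom.comp_apply, he, Scheme.fromSpecResidueField_apply]
  haveI : IsIso (pullback.diagonal k) := by
    refine isIso_of_isOpenImmersion_of_opensRange_eq_top _ (eq_top_iff.mpr fun z _ => ?_)
    exact (pullback.diagonal k).surjective z
  exact (pullback.isIso_diagonal_iff k).mp inferInstance

variable {S : Scheme.{u}} {X X' Y Y' : Space S} {i : X ⟶ X'} {j : Y ⟶ Y'} {f : X ⟶ Y} {f' : X' ⟶ Y'}

theorem repWith_mono_of_mono (hrep : Representable f.hom) [Mono f.hom] :
    RepWith (MorphismProperty.monomorphisms Scheme.{u}) f.hom := by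
  refine ⟨hrep, fun T W g a p sq => ?_⟩
  haveI : Mono ((yon S).map p) :=
    MorphismProperty.of_isPullback (P := MorphismProperty.monomorphisms _) sq
      (show MorphismProperty.monomorphisms _ f.hom from inferInstanceAs (Mono f.hom))
  exact mono_of_map p

theorem lqf_of_mono (hft : LocP @LocallyOfFiniteType f.hom) [Mono f.hom] :
    LocP (@LocallyQuasiFinite ⊓ @LocallyOfFiniteType) f.hom := by
  refine (S9955.result f hft).2 fun K _ str y P fst snd sq => ?_
  haveI : Mono snd := MorphismProperty.of_isPullback (P := MorphismProperty.monomorphisms _) sq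
      (show MorphismProperty.monomorphisms _ f.hom from inferInstanceAs (Mono f.hom))
  haveI : Subsingleton (Points ((yon S).obj (Over.mk str))) :=
    haveI : Subsingleton ↥(Over.mk str).left := inferInstanceAs (Subsingleton ↥(Spec (CommRingCat.of K)))
    (Points.schemeEquiv (Over.mk str)).symm.subsingleton
  haveI : Subsingleton (Points P) := ⟨fun x x' => by
    obtain ⟨z, h1, h2⟩ := exists_point_of_isPullback
      (IsKernelPair.id_of_mono snd : IsPullback (𝟙 _) (𝟙 _) snd snd) x x' (Subsingleton.elim _ _)
    exact h1.symm.trans h2⟩
  infer_instance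

theorem mono_thick_iff (hi : IsThickMor i.hom) (hj : IsThickMor j.hom) (w : i ≫ f' = f ≫ j)
    (hcart : IsPullback i.hom f.hom f'.hom j.hom) (hft' : LocP @LocallyOfFiniteType f'.hom) :
    Mono f.hom ↔ Mono f'.hom := by
  refine ⟨fun h => ?_, fun h => MorphismProperty.of_isPullback (P := MorphismProperty.monomorphisms _) hcart h⟩
  have hft := AlgSpc.locP_base_change X'.property Y'.property Y.property hcart hft'
  have hlqf := lqf_of_mono (f := f) hft
  have hsep : IsSeparatedMor f.hom := repWith_iso (pullback.diagonal f.hom)
  have hrep' := S10260.result f' ((S10593.result i j f f' hi hj w hcart hft hft').1.1 hlqf)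
    ((AlgSpLoc.separated_thick_iff hi hj (congrArg (fun k => k.hom) w) X.property X'.property Y.property
      Y'.property).1.1 hsep)
  have hm := repWith_mono_of_mono (f := f) (S10260.result f hlqf hsep)
  exact mono_of_repWith (P := MorphismProperty.monomorphisms _) (fun _ _ _ hk => hk)
    (repWith_of_thick (P := MorphismProperty.monomorphisms _)
      (fun k _ s _ _ hk => haveI : Mono (pullback.snd k s) := hk; mono_of_thick_base k s) hj hcart hft' hrep' hm)

end Groth.Agent.AlgSpThickUnr
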