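import Groth.Agent.AlgSpThickUnr.Deform
import Groth.Agent.AlgSpThickUnr.Mono
import Groth.Agent.AlgSpLoc.Cover
import Groth.Agent.AlgSpLoc.Inst
import Groth.Agent.S10587
import Mathlib.AlgebraicGeometry.Morphisms.FlatMono

/-!
Properties of flat deformations of morphisms of algebraic spaces.
-/

set_option autoImplicit false
set_option linter.style.haveILetI false
set_option backward.isDefEq.respectTransparency false

universe u

open CategoryTheory CategoryTheory.Limits AlgebraicGeometry

namespace Groth.Agent.AlgSpThickUnr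

open _root_.AlgSp Groth.Agent.AlgSpc

variable {S : Scheme.{u}} {X X' Y Y' B B' : Space S} {iX : X ⟶ X'} {iY : Y ⟶ Y'} {iB : B ⟶ B'}
  {f : X ⟶ Y} {f' : X' ⟶ Y'} {g : Y ⟶ B} {g' : Y' ⟶ B'}

theorem locP_flat_of_deform (hcX : IsPullback iX.hom (f ≫ g).hom (f' ≫ g').hom iB.hom)
    (hcY : IsPullback iY.hom g.hom g'.hom iB.hom) (w : iX ≫ f' = f ≫ iY) (hB : IsFinThickMor iB.hom)
    (hflat : LocP @Flat (f' ≫ g').hom) (h : LocP @Flat f.hom) : LocP @Flat f'.hom :=
  locP_of_deform (P := @Flat) (fun hn hx hy hw hfl hf => haveI := hfl; haveI := hf; FlatBasics.flat_of_deform hn hx hy hw)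
    hcX hcY w hB hflat h

theorem locP_lft_of_deform (hcX : IsPullback iX.hom (f ≫ g).hom (f' ≫ g').hom iB.hom)
    (hcY : IsPullback iY.hom g.hom g'.hom iB.hom) (w : iX ≫ f' = f ≫ iY) (hB : IsFinThickMor iB.hom)
    (hflat : LocP @Flat (f' ≫ g').hom) (h : LocP @LocallyOfFiniteType f.hom) : LocP @LocallyOfFiniteType f'.hom :=
  locP_of_deform (P := @LocallyOfFiniteType)
    (fun hn hx hy hw hfl hf => haveI := hfl; haveI := hf; locallyOfFiniteType_of_deform hn hx hy hw)
    hcX hcY w hB hflat h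

theorem locP_lfp_of_deform (hcX : IsPullback iX.hom (f ≫ g).hom (f' ≫ g').hom iB.hom)
    (hcY : IsPullback iY.hom g.hom g'.hom iB.hom) (w : iX ≫ f' = f ≫ iY) (hB : IsFinThickMor iB.hom)
    (hflat : LocP @Flat (f' ≫ g').hom) (h : LocP @LocallyOfFinitePresentation f.hom) :
    LocP @LocallyOfFinitePresentation f'.hom :=
  locP_of_deform (P := @LocallyOfFinitePresentation)
    (fun hn hx hy hw hfl hf => haveI := hfl; haveI := hf; FlatBasics.locallyOfFinitePresentation_of_deform hn hx hy hw)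
    hcX hcY w hB hflat h

theorem locP_etale_of_deform (hcX : IsPullback iX.hom (f ≫ g).hom (f' ≫ g').hom iB.hom)
    (hcY : IsPullback iY.hom g.hom g'.hom iB.hom) (w : iX ≫ f' = f ≫ iY) (hB : IsFinThickMor iB.hom)
    (hflat : LocP @Flat (f' ≫ g').hom) (h : LocP @Etale f.hom) : LocP @Etale f'.hom :=
  locP_of_deform (P := @Etale)
    (fun hn hx hy hw hfl hf => haveI := hfl; haveI := hf; FlatBasics.etale_of_deform hn hx hy hw)
    hcX hcY w hB hflat h

theorem isOpenImmersion_of_deform (hcX : IsPullback iX.hom (f ≫ g).hom (f' ≫ g').hom iB.hom)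
    (hcY : IsPullback iY.hom g.hom g'.hom iB.hom) (w : iX ≫ f' = f ≫ iY) (hB : IsFinThickMor iB.hom)
    (hflat : LocP @Flat (f' ≫ g').hom) (h : RepWith @IsOpenImmersion f.hom) :
    RepWith @IsOpenImmersion f'.hom ∧ Mono f'.hom ∧ LocP @Etale f'.hom := by
  obtain ⟨n, hn⟩ := hB
  have hiY : IsThickMor iY.hom := repWith_of_isPullback hcY.flip hn.1
  have hiX : IsThickMor iX.hom := repWith_of_isPullback hcX.flip hn.1
  have hcart : IsPullback iX.hom f.hom f'.hom iY.hom :=
    IsPullback.of_bot hcX (congrArg (fun k => k.hom) w) hcY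
  have het := locP_etale_of_deform hcX hcY w ⟨n, hn⟩ hflat (locP_of_repWith (P := @Etale) EtLoc.precomp
    (repWith_mono (Q := @Etale) (fun _ _ k (hk : IsOpenImmersion k) => inferInstance) h))
  have hft : LocP @LocallyOfFiniteType f'.hom := fun _ _ a b k ha hb wk => haveI := het a b k ha hb wk; inferInstance
  haveI : Mono f.hom := mono_of_repWith (fun _ _ k (hk : IsOpenImmersion k) => inferInstance) h
  haveI : Mono f'.hom := (mono_thick_iff hiX hiY w hcart hft).1 ‹_›
  have hm := repWith_mono_of_mono (f := f')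
    (S10260.result f' (lqf_of_mono (f := f') hft) (repWith_iso (pullback.diagonal f'.hom)))
  refine ⟨⟨hm.1, fun T W t a p sq => ?_⟩, ‹_›, het⟩
  haveI : Mono p.left := hm.2 t a p sq
  haveI : Etale p.left := prop_of_locP_sq (P := @Etale) X'.property Y'.property het sq
  exact IsOpenImmersion.of_flat_of_mono p.left

theorem isIso_of_deform (hcX : IsPullback iX.hom (f ≫ g).hom (f' ≫ g').hom iB.hom)
    (hcY : IsPullback iY.hom g.hom g'.hom iB.hom) (w : iX ≫ f' = f ≫ iY) (hB : IsFinThickMor iB.hom)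
    (hflat : LocP @Flat (f' ≫ g').hom) (h : IsIso f.hom) : IsIso f'.hom := by
  haveI := h
  obtain ⟨n, hn⟩ := hB
  have ho := (isOpenImmersion_of_deform hcX hcY w ⟨n, hn⟩ hflat (repWith_iso f.hom)).1
  haveI : Mono f'.hom := mono_of_repWith (fun _ _ k (hk : IsOpenImmersion k) => inferInstance) ho
  have hs : Function.Surjective (Points.map f'.hom) :=
    (S10587.result iX iY f f' (repWith_of_isPullback hcX.flip hn.1) (repWith_of_isPullback hcY.flip hn.1) w).1.1
      (surjective_map_of_repWith (repWith_iso (P := @Surjective) f.hom))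
  refine AlgSpLoc.isIso_of_mono_of_sq f'.hom fun T t => ?_
  obtain ⟨V, a, p, sq⟩ := exists_sq ho.1 t
  haveI : IsOpenImmersion p.left := ho.2 t a p sq
  exact ⟨V, p, a, inferInstance, surjective_of_sq hs sq, inferInstance, sq.w⟩

theorem mono_of_deform (hcX : IsPullback iX.hom (f ≫ g).hom (f' ≫ g').hom iB.hom)
    (hcY : IsPullback iY.hom g.hom g'.hom iB.hom) (w : iX ≫ f' = f ≫ iY) (hB : IsFinThickMor iB.hom)
    (hflat : LocP @Flat (f' ≫ g').hom) (h : Mono f.hom) : Mono f'.hom := by
  have hcart : IsPullback iX.hom f.hom f'.hom iY.hom :=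
    IsPullback.of_bot hcX (congrArg (fun k => k.hom) w) hcY
  let P : Space S := ⟨_, isAlgSpace_of_isPullback X.property Y.property X.property (IsPullback.of_hasPullback f.hom f.hom)⟩
  let P' : Space S := ⟨_, isAlgSpace_of_isPullback X'.property Y'.property X'.property (IsPullback.of_hasPullback f'.hom f'.hom)⟩
  let d : X ⟶ P := ObjectProperty.homMk (pullback.diagonal f.hom)
  let d' : X' ⟶ P' := ObjectProperty.homMk (pullback.diagonal f'.hom)
  let p : P ⟶ X := ObjectProperty.homMk (pullback.fst f.hom f.hom)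
  let p' : P' ⟶ X' := ObjectProperty.homMk (pullback.fst f'.hom f'.hom)
  let iP : P ⟶ P' := ObjectProperty.homMk (pullback.map f.hom f.hom f'.hom f'.hom iX.hom iX.hom iY.hom hcart.w.symm hcart.w.symm)
  have sP : IsPullback iP.hom p.hom p'.hom iX.hom := by
    refine IsPullback.of_right (h₁₂ := pullback.snd f'.hom f'.hom) ?_ (pullback.lift_fst _ _ _)
      (IsPullback.of_hasPullback f'.hom f'.hom).flip
    rw [show iP.hom ≫ pullback.snd f'.hom f'.hom = pullback.snd f.hom f.hom ≫ iX.hom from pullback.lift_snd _ _ _,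
      hcart.w]
    exact (IsPullback.of_hasPullback f.hom f.hom).flip.paste_horiz hcart
  have sB : IsPullback iP.hom (p ≫ f ≫ g).hom (p' ≫ f' ≫ g').hom iB.hom := by
    simp only [ObjectProperty.FullSubcategory.comp_hom]
    exact sP.paste_vert hcX
  have hd : d ≫ p = 𝟙 X := ObjectProperty.hom_ext _ (pullback.diagonal_fst f.hom)
  have hd' : d' ≫ p' = 𝟙 X' := ObjectProperty.hom_ext _ (pullback.diagonal_fst f'.hom)
  haveI : IsIso d.hom := (pullback.isIso_diagonal_iff f.hom).mpr h
  refine (pullback.isIso_diagonal_iff f'.hom).mp (isIso_of_deform (iX := iX) (iY := iP) (f := d) (f' := d')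
    (g := p ≫ f ≫ g) (g' := p' ≫ f' ≫ g') ?_ sB ?_ hB ?_ ‹_›)
  · rw [← Category.assoc d, hd, ← Category.assoc d', hd', Category.id_comp, Category.id_comp]; exact hcX
  · refine ObjectProperty.hom_ext _ ?_
    show iX.hom ≫ pullback.diagonal f'.hom = pullback.diagonal f.hom ≫ iP.hom
    apply pullback.hom_ext <;> simp [iP, pullback.map]
  · rw [← Category.assoc d', hd', Category.id_comp]; exact hflat

end Groth.Agent.AlgSpThickUnr
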