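import Groth.Agent.AlgSpThickUnr.Fibres
import Groth.Agent.AlgSpLoc.FlatLocusSp
import Groth.Agent.AlgSpc.EtLocInst
import Groth.Agent.AlgSpc.FibreProd

/-!
Descending local properties along thickenings of the base.
-/

set_option autoImplicit false
set_option linter.style.haveILetI false
set_option backward.isDefEq.respectTransparency false

universe u

open CategoryTheory CategoryTheory.Limits AlgebraicGeometry

namespace Groth.Agent.AlgSpThickUnr

open _root_.AlgSp Groth.Agent.AlgSpc

variable {S : Scheme.{u}} {X X' Y Y' : Space S} {i : X ⟶ X'} {j : Y ⟶ Y'} {f : X ⟶ Y} {f' : X' ⟶ Y'}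

theorem locP_of_thick {P Q : MorphismProperty Scheme.{u}} [EtLoc P]
    (hP : ∀ {W T T0 : Scheme.{u}} (k : W ⟶ T) (s : T0 ⟶ T) [IsClosedImmersion s] [Surjective s],
      Q k → P (pullback.snd k s) → P k)
    (hj : IsThickMor j.hom) (hcart : IsPullback i.hom f.hom f'.hom j.hom)
    (hQ : LocP Q f'.hom) (h : LocP P f.hom) : LocP P f'.hom := by
  obtain ⟨V, b, hb, hbs⟩ := Y'.property.atlas
  obtain ⟨V0, t, s, sqj⟩ := exists_sq hj.1 b
  haveI : IsClosedImmersion s.left := (hj.2 _ _ _ sqj).1
  haveI : Surjective s.left := (hj.2 _ _ _ sqj).2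
  have sX := IsPullback.of_hasPullback f'.hom b
  obtain ⟨U, c, hc, hcs⟩ :=
    (isAlgSpace_of_isPullback X'.property Y'.property (IsAlgSpace.yon_obj V) sX).atlas
  let k : U ⟶ V := pre (c ≫ pullback.snd f'.hom b)
  have w' : (c ≫ pullback.fst f'.hom b) ≫ f'.hom = (yon S).map k ≫ b := by
    rw [map_pre, Category.assoc, Category.assoc, sX.w]
  have ha : RepWith @Etale (c ≫ pullback.fst f'.hom b) := repWith_comp hc (repWith_of_isPullback sX.flip hb)
  have has : RepWith @Surjective (c ≫ pullback.fst f'.hom b) :=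
    repWith_comp hcs (repWith_of_isPullback sX.flip hbs)
  let U0 : Over S := Over.mk (pullback.snd k.left s.left ≫ V0.hom)
  let k0 : U0 ⟶ V0 := Over.homMk (pullback.snd k.left s.left) rfl
  let wU : U0 ⟶ U := Over.homMk (pullback.fst k.left s.left) (by
    change _ = pullback.snd k.left s.left ≫ V0.hom
    rw [← Over.w k, ← Over.w s, pullback.condition_assoc])
  have sU : IsPullback wU.left k0.left k.left s.left := IsPullback.of_hasPullback _ _
  have ht : RepWith @Etale t := repWith_of_isPullback sqj.flip hb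
  obtain ⟨a0, ha0, -, w0, -⟩ := AlgSpLoc.exists_chart_baseChange hcart sqj.w
    ht (repWith_of_isPullback sqj.flip hbs) hc hcs (map_pre _).symm sU
  exact locP_of_chart ha has hb w' (hP k.left s.left (hQ _ b k ha hb w') (h a0 t k0 ha0 ht w0))

end Groth.Agent.AlgSpThickUnr
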