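import Mathlib
import Groth.Agent.WeilCohLib.Count

/-!
Immersions descend along thickenings of the base, for morphisms locally of finite type.
-/

set_option autoImplicit false
set_option linter.style.haveILetI false
set_option backward.isDefEq.respectTransparency false

universe u

open CategoryTheory CategoryTheory.Limits AlgebraicGeometry TensorProduct

namespace Groth.Agent.AlgSpThickUnr

theorem surjective_of_quotient (A B : Type u) [CommRing A] [CommRing B] [Algebra A B] [Algebra.FiniteType A B]
    (I : Ideal A) (hI : I ≤ nilradical A) (h : ∀ b : B, ∃ a : A, b - algebraMap A B a ∈ I.map (algebraMap A B)) :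
    Function.Surjective (algebraMap A B) := by
  classical
  obtain ⟨s, hs⟩ := ‹Algebra.FiniteType A B›.out
  choose a ha using h
  have hfin : ∀ b : B, ∃ T : Finset A, (↑T : Set A) ⊆ I ∧ b - algebraMap A B (a b) ∈ (Ideal.span (T : Set A)).map (algebraMap A B) := by
    intro b
    have hb := ha b
    rw [Ideal.map] at hb
    obtain ⟨T, hT, hbT⟩ := Submodule.mem_span_finite_of_mem_span hb
    obtain ⟨T', hT'I, hT'⟩ := Finset.subset_set_image_iff.1 hT
    refine ⟨T', hT'I, ?_⟩
    subst hT'
    rw [Ideal.map_span, ← Finset.coe_image]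
    exact hbT
  choose T hTI hT using hfin
  let J : Ideal A := Ideal.span ((s.biUnion T : Finset A) : Set A)
  have hJI : J ≤ I := Ideal.span_le.2 fun x hx => by
    obtain ⟨b, -, hxb⟩ := Finset.mem_biUnion.1 hx
    exact hTI b hxb
  obtain ⟨m, hm⟩ := (Ideal.FG.isNilpotent_iff_le_nilradical (show J.FG from Submodule.fg_span (Finset.finite_toSet _))).2 (hJI.trans hI)
  have h1 : ∀ b : B, ∃ c : A, b - algebraMap A B c ∈ J.map (algebraMap A B) := by
    intro b
    have hb : b ∈ Algebra.adjoin A (s : Set B) := by rw [hs]; trivial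
    induction hb using Algebra.adjoin_induction with
    | mem x hx =>
      exact ⟨a x, Ideal.map_mono (Ideal.span_mono (Finset.coe_subset.2 (Finset.subset_biUnion_of_mem T hx))) (hT x)⟩
    | algebraMap r => exact ⟨r, by simp⟩
    | add x y _ _ hx hy =>
      obtain ⟨c, hc⟩ := hx; obtain ⟨c', hc'⟩ := hy
      exact ⟨c + c', by rw [map_add, add_sub_add_comm]; exact add_mem hc hc'⟩
    | mul x y _ _ hx hy =>
      obtain ⟨c, hc⟩ := hx; obtain ⟨c', hc'⟩ := hy
      refine ⟨c * c', ?_⟩
      have : x * y - algebraMap A B (c * c') = (x - algebraMap A B c) * y + algebraMap A B c * (y - algebraMap A B c') := by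
        rw [map_mul]; ring
      rw [this]
      exact add_mem (Ideal.mul_mem_right _ _ hc) (Ideal.mul_mem_left _ _ hc')
  have key : ∀ (k : ℕ) (b : B), ∃ c : A, b - algebraMap A B c ∈ J.map (algebraMap A B) ^ k := by
    intro k
    induction k with
    | zero => exact fun b => ⟨0, by simp⟩
    | succ k ih =>
      intro b
      obtain ⟨c, hc⟩ := ih b
      suffices ∀ x ∈ J.map (algebraMap A B) ^ k, ∃ c : A, x - algebraMap A B c ∈ J.map (algebraMap A B) ^ (k + 1) by
        obtain ⟨c', h'⟩ := this _ hc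
        exact ⟨c + c', by rwa [map_add, ← sub_sub]⟩
      intro x hx
      rw [← Ideal.map_pow, ← Submodule.restrictScalars_mem A, ← Ideal.smul_top_eq_map] at hx
      refine Submodule.smul_induction_on hx (fun r hr y _ => ?_) fun p q ⟨c, hp⟩ ⟨c', hq⟩ =>
        ⟨c + c', by rw [map_add, add_sub_add_comm]; exact add_mem hp hq⟩
      obtain ⟨c', hy⟩ := h1 y
      refine ⟨r * c', ?_⟩
      rw [map_mul, Algebra.smul_def, ← mul_sub, pow_succ]
      exact Ideal.mul_mem_mul (by rw [← Ideal.map_pow]; exact Ideal.mem_map_of_mem _ hr) hy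
  intro b
  obtain ⟨c, hc⟩ := key m b
  refine ⟨c, ?_⟩
  rw [← Ideal.map_pow, hm, Ideal.zero_eq_bot, Ideal.map_bot, Ideal.mem_bot, sub_eq_zero] at hc
  exact hc.symm

theorem isHomeomorph_of_thick {X Y : Scheme.{u}} (f : X ⟶ Y) [IsClosedImmersion f] [Surjective f] :
    IsHomeomorph f :=
  IsHomeomorph.mk f.continuous (f.isClosedEmbedding.isEmbedding.isOpenEmbedding_of_surjective f.surjective).isOpenMap
    ⟨f.isClosedEmbedding.injective, f.surjective⟩

theorem isClosedImmersion_of_thick {W T T0 : Scheme.{u}} (k : W ⟶ T) [LocallyOfFiniteType k] (s : T0 ⟶ T)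
    [IsClosedImmersion s] [Surjective s] [h : IsClosedImmersion (pullback.snd k s)] : IsClosedImmersion k := by
  have hemb : Topology.IsClosedEmbedding k := by
    haveI : IsClosedImmersion (pullback.fst k s) := MorphismProperty.pullback_fst _ _ ‹_›
    haveI : Surjective (pullback.fst k s) := MorphismProperty.pullback_fst _ _ ‹_›
    have h2 : Topology.IsClosedEmbedding (⇑k ∘ ⇑(pullback.fst k s)) := by
      have he : ⇑k ∘ ⇑(pullback.fst k s) = ⇑(pullback.snd k s ≫ s) := by
        funext x
        rw [Function.comp_apply, ← Scheme.Hom.comp_apply, pullback.condition]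
      rw [he]
      exact (pullback.snd k s ≫ s).isClosedEmbedding
    let e := (isHomeomorph_of_thick (pullback.fst k s)).homeomorph
    have : (⇑k : W → T) = (⇑k ∘ ⇑(pullback.fst k s)) ∘ e.symm := by
      funext w
      exact congrArg k (e.apply_symm_apply w).symm
    rw [this]
    exact h2.comp e.symm.isClosedEmbedding
  haveI haff : IsAffineHom k := isAffineHom_of_isInducing _ hemb.isInducing hemb.isClosed_range
  clear hemb
  wlog hT : ∃ A, T = Spec A generalizing W T T0
  · rw [IsZariskiLocalAtTarget.iff_of_openCover (P := @IsClosedImmersion) T.affineCover]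
    intro i
    dsimp only [Scheme.Cover.pullbackHom]
    let c := T.affineCover.f i
    haveI h1 : IsClosedImmersion (pullback.snd s c) := MorphismProperty.pullback_snd _ _ ‹_›
    haveI h2 : Surjective (pullback.snd s c) := MorphismProperty.pullback_snd _ _ ‹_›
    haveI h3 : LocallyOfFiniteType (pullback.snd k c) := MorphismProperty.pullback_snd _ _ ‹_›
    haveI h4 : IsAffineHom (pullback.snd k c) := MorphismProperty.pullback_snd _ _ ‹_›
    haveI hu : IsClosedImmersion (pullback.snd (pullback.snd k c) (pullback.snd s c)) := by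
      have sq : IsPullback (pullback.fst (pullback.snd k c) (pullback.snd s c) ≫ pullback.fst k c)
          (pullback.snd (pullback.snd k c) (pullback.snd s c)) k (pullback.fst s c ≫ s) := by
        rw [pullback.condition]
        exact (IsPullback.of_hasPullback _ _).paste_horiz (IsPullback.of_hasPullback k c)
      exact MorphismProperty.of_isPullback (P := @IsClosedImmersion)
        (IsPullback.of_right (by rw [pullback.lift_fst]; exact sq) (pullback.lift_snd _ _ (by rw [sq.w, Category.assoc]))
          (IsPullback.of_hasPullback k s)) h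
    exact this (pullback.snd k c) (pullback.snd s c) h4 ⟨_, rfl⟩
  obtain ⟨A, rfl⟩ := hT
  haveI : IsAffine W := isAffine_of_isAffineHom k
  rw [← MorphismProperty.cancel_left_of_respectsIso @IsClosedImmersion W.isoSpec.inv k]
  haveI hb : IsClosedImmersion (pullback.snd (W.isoSpec.inv ≫ k) s) := by
    let m := pullback.map (W.isoSpec.inv ≫ k) s k s W.isoSpec.inv (𝟙 _) (𝟙 _) (by simp) (by simp)
    haveI : IsIso m := pullback.map_isIso _ _ _ _ _ _ _ _ _
    rw [show pullback.snd (W.isoSpec.inv ≫ k) s = m ≫ pullback.snd k s by rw [pullback.lift_snd, Category.comp_id]]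
    infer_instance
  obtain ⟨φ, hφ⟩ : ∃ φ, Spec.map φ = W.isoSpec.inv ≫ k := ⟨_, Spec.map_preimage _⟩
  haveI : LocallyOfFiniteType (Spec.map φ) := by rw [hφ]; infer_instance
  rw [← hφ] at hb ⊢
  obtain ⟨I, e, hs⟩ := IsClosedImmersion.Spec_iff.1 ‹IsClosedImmersion s›
  let q : CommRingCat.of ↥A ⟶ CommRingCat.of (↥A ⧸ I) := CommRingCat.ofHom (Ideal.Quotient.mk I)
  have hI : I ≤ nilradical ↥A := by
    intro a ha
    rw [nilradical_eq_sInf, Ideal.mem_sInf]
    intro p hp
    haveI : p.IsPrime := hp
    obtain ⟨y, hy⟩ := s.surjective ⟨p, hp⟩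
    rw [hs, Scheme.Hom.comp_apply] at hy
    obtain rfl : ((e.hom y).asIdeal.comap (Ideal.Quotient.mk I)) = p := congrArg PrimeSpectrum.asIdeal hy
    rw [Ideal.mem_comap, Ideal.Quotient.eq_zero_iff_mem.2 ha]
    exact zero_mem _
  algebraize [φ.hom]
  haveI : Algebra.FiniteType ↥A ↥(Γ(W, ⊤)) :=
    (HasRingHomProperty.Spec_iff (P := @LocallyOfFiniteType)).1 ‹LocallyOfFiniteType (Spec.map φ)›
  haveI h' : IsClosedImmersion (pullback.snd (Spec.map φ) (Spec.map q)) := by
    have sq : IsPullback (pullback.fst (Spec.map φ) s) (pullback.snd (Spec.map φ) s ≫ e.hom)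
        (Spec.map φ) (Spec.map q) :=
      IsPullback.of_iso (IsPullback.of_hasPullback (Spec.map φ) s) (Iso.refl _) (Iso.refl _) e (Iso.refl _)
        (by simp) (by simp) (by simp) (by simpa using hs)
    rw [← sq.isoPullback_inv_snd]
    infer_instance
  have h2 : IsClosedImmersion (Spec.map (CommRingCat.ofHom
      (Algebra.TensorProduct.includeLeftRingHom (R := ↥A) (A := ↥A ⧸ I) (B := ↥Γ(W, ⊤))))) := by
    rw [← pullbackSpecIso_inv_fst ↥A (↥A ⧸ I) ↥Γ(W, ⊤)]
    have : IsClosedImmersion (pullback.fst (Spec.map (CommRingCat.ofHom (algebraMap ↥A (↥A ⧸ I))))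
        (Spec.map (CommRingCat.ofHom (algebraMap ↥A ↥Γ(W, ⊤))))) := by
      rw [← pullbackSymmetry_hom_comp_snd]
      exact (MorphismProperty.cancel_left_of_respectsIso @IsClosedImmersion _ _).2 h'
    infer_instance
  have hsur := WeilCohLib.surjective_of_isClosedImmersion_Spec (CommRingCat.ofHom
      (Algebra.TensorProduct.includeLeftRingHom (R := ↥A) (A := ↥A ⧸ I) (B := ↥Γ(W, ⊤))))
  refine IsClosedImmersion.spec_of_surjective φ (surjective_of_quotient ↥A ↥Γ(W, ⊤) I hI fun b => ?_)
  obtain ⟨x, hx⟩ := hsur ((1 : ↥A ⧸ I) ⊗ₜ[↥A] b)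
  obtain ⟨a, rfl⟩ := Ideal.Quotient.mk_surjective x
  refine ⟨a, ?_⟩
  have hx' : (Ideal.Quotient.mk I a) ⊗ₜ[↥A] (1 : ↥Γ(W, ⊤)) = (1 : ↥A ⧸ I) ⊗ₜ[↥A] b := hx
  have h0 : (algebraMap ↥A ↥Γ(W, ⊤) a) ⊗ₜ[↥A] (1 : ↥A ⧸ I) = b ⊗ₜ[↥A] (1 : ↥A ⧸ I) := by
    have := congrArg (TensorProduct.comm ↥A (↥A ⧸ I) ↥Γ(W, ⊤)) hx'
    simp only [TensorProduct.comm_tmul] at this
    rw [← this, Algebra.algebraMap_eq_smul_one, TensorProduct.smul_tmul]
    congr 1
    simp [Algebra.smul_def]
  let e' := Algebra.TensorProduct.quotIdealMapEquivTensorQuot ↥Γ(W, ⊤) I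
  have h3 : Ideal.Quotient.mk (I.map (algebraMap ↥A ↥Γ(W, ⊤))) b =
      Ideal.Quotient.mk (I.map (algebraMap ↥A ↥Γ(W, ⊤))) (algebraMap ↥A ↥Γ(W, ⊤) a) :=
    e'.injective h0.symm
  exact Ideal.Quotient.eq.1 h3

theorem isImmersion_of_thick {W T T0 : Scheme.{u}} (k : W ⟶ T) [LocallyOfFiniteType k] (s : T0 ⟶ T)
    [IsClosedImmersion s] [Surjective s] [h : IsImmersion (pullback.snd k s)] : IsImmersion k := by
  haveI : Surjective (pullback.fst k s) := MorphismProperty.pullback_fst _ _ ‹_›
  have hr : Set.range k = s '' Set.range (pullback.snd k s) := by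
    rw [← (pullback.fst k s).surjective.range_comp ⇑k, ← Set.range_comp]
    congr 1
    funext x
    rw [Function.comp_apply, Function.comp_apply, ← Scheme.Hom.comp_apply, pullback.condition, Scheme.Hom.comp_apply]
  have hlc : IsLocallyClosed (Set.range k) := by
    rw [hr]
    exact (pullback.snd k s).isLocallyClosed_range.image s.isEmbedding.isInducing
      (by rw [s.surjective.range_eq]; exact isClosed_univ.isLocallyClosed)
  let U : T.Opens := ⟨coborder (Set.range k), hlc.isOpen_coborder⟩
  let k' : W ⟶ U := IsOpenImmersion.lift U.ι k (by simpa [U] using subset_coborder)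
  have hk' : k' ≫ U.ι = k := IsOpenImmersion.lift_fac _ _ _
  haveI : LocallyOfFiniteType k' := by
    haveI : LocallyOfFiniteType (k' ≫ U.ι) := hk' ▸ ‹_›
    exact locallyOfFiniteType_of_comp k' U.ι
  haveI hs1 : IsClosedImmersion (pullback.snd s U.ι) := MorphismProperty.pullback_snd _ _ ‹_›
  haveI hs2 : Surjective (pullback.snd s U.ι) := MorphismProperty.pullback_snd _ _ ‹_›
  haveI : IsImmersion (pullback.snd k' (pullback.snd s U.ι)) := by
    have sqk : IsPullback (𝟙 W) k' k U.ι :=
      IsPullback.of_isLimit' ⟨by simp [hk']⟩ (PullbackCone.IsLimit.mk _ (fun x => x.fst)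
        (fun x => Category.comp_id _)
        (fun x => (cancel_mono U.ι).1 (by rw [Category.assoc, hk', x.condition]))
        (fun x n h₁ _ => (Category.comp_id n).symm.trans h₁))
    have sq : IsPullback (pullback.fst k' (pullback.snd s U.ι) ≫ 𝟙 W) (pullback.snd k' (pullback.snd s U.ι))
        k (pullback.fst s U.ι ≫ s) := by
      rw [pullback.condition (f := s)]
      exact (IsPullback.of_hasPullback _ _).paste_horiz sqk
    exact MorphismProperty.of_isPullback (P := @IsImmersion)
      (IsPullback.of_right (by rw [pullback.lift_fst]; exact sq) (pullback.lift_snd _ _ (by rw [sq.w, Category.assoc]))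
        (IsPullback.of_hasPullback k s)) h
  haveI : IsClosedImmersion (pullback.snd k' (pullback.snd s U.ι)) := by
    refine IsClosedImmersion.of_isPreimmersion _ ?_
    rw [Scheme.Pullback.range_snd]
    refine IsClosed.preimage (pullback.snd s U.ι).continuous ?_
    rw [show Set.range k' = U.ι ⁻¹' Set.range k by
      rw [← Set.preimage_image_eq (Set.range k') U.ι.injective, ← Set.range_comp]
      congr 2
      funext x
      rw [Function.comp_apply, ← Scheme.Hom.comp_apply, hk']]
    exact isClosed_preimage_val_coborder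
  haveI : IsClosedImmersion k' := isClosedImmersion_of_thick k' (pullback.snd s U.ι)
  rw [← hk']
  infer_instance

end Groth.Agent.AlgSpThickUnr
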