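import Groth.Agent.AlgSpThickUnr.Immersion
import Groth.Agent.AlgSpFibDim.Finite
import Groth.Agent.AlgSpLoc.ThickDiag
import Groth.Agent.AlgSpLoc.EtSmDescentSch
import Groth.Agent.S10260
import Groth.Agent.S10593

/-!
Proper, finite morphisms and immersions along thickenings, for morphisms locally of finite type.
-/

set_option autoImplicit false
set_option linter.style.haveILetI false
set_option backward.isDefEq.respectTransparency false

universe u

open CategoryTheory CategoryTheory.Limits AlgebraicGeometry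

namespace Groth.Agent.AlgSpThickUnr

open _root_.AlgSp Groth.Agent.AlgSpc

variable {S : Scheme.{u}} {X X' Y Y' : Space S} {i : X ⟶ X'} {j : Y ⟶ Y'} {f : X ⟶ Y} {f' : X' ⟶ Y'}

theorem repWith_of_thick {P : MorphismProperty Scheme.{u}}
    (hP : ∀ {W T T0 : Scheme.{u}} (k : W ⟶ T) [LocallyOfFiniteType k] (s : T0 ⟶ T) [IsClosedImmersion s]
      [Surjective s], P (pullback.snd k s) → P k)
    (hj : IsThickMor j.hom) (hcart : IsPullback i.hom f.hom f'.hom j.hom)
    (hft' : LocP @LocallyOfFiniteType f'.hom) (hrep : Representable f'.hom)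
    (hf : RepWith P f.hom) : RepWith P f'.hom := by
  refine ⟨hrep, fun T W g a p sqW => ?_⟩
  obtain ⟨T0, t, s, sqj⟩ := exists_sq hj.1 g
  haveI : IsClosedImmersion s.left := (hj.2 _ _ _ sqj).1
  haveI : Surjective s.left := (hj.2 _ _ _ sqj).2
  haveI : LocallyOfFiniteType p.left :=
    prop_of_locP_sq (P := @LocallyOfFiniteType) X'.property Y'.property hft' sqW
  let W0 : Over S := Over.mk (pullback.snd p.left s.left ≫ T0.hom)
  let p0 : W0 ⟶ T0 := Over.homMk (pullback.snd p.left s.left) rfl
  let e : W0 ⟶ W := Over.homMk (pullback.fst p.left s.left) (by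
    change _ = pullback.snd p.left s.left ≫ T0.hom
    rw [← Over.w p, ← Over.w s, pullback.condition_assoc])
  have sU : IsPullback e.left p0.left p.left s.left := IsPullback.of_hasPullback _ _
  have sU' := (AlgSpLoc.isPullback_over sU).map (yon S)
  have w1 : ((yon S).map e ≫ a) ≫ f'.hom = ((yon S).map p0 ≫ t) ≫ j.hom := by
    rw [Category.assoc, sqW.w, Category.assoc, sqj.w, ← Category.assoc, ← Category.assoc, sU'.w]
  let x := hcart.lift _ _ w1
  have hbig : IsPullback (x ≫ i.hom) ((yon S).map p0) f'.hom (t ≫ j.hom) := by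
    rw [show x ≫ i.hom = (yon S).map e ≫ a from hcart.lift_fst _ _ w1, sqj.w]
    exact sU'.paste_horiz sqW
  exact hP p.left s.left (hf.2 t x p0 (IsPullback.of_right hbig (hcart.lift_snd _ _ w1) hcart))

theorem isProperMor_thick_iff (hi : IsThickMor i.hom) (hj : IsThickMor j.hom) (w : i ≫ f' = f ≫ j)
    (hcart : IsPullback i.hom f.hom f'.hom j.hom) (hft' : LocP @LocallyOfFiniteType f'.hom) :
    IsProperMor f.hom ↔ IsProperMor f'.hom := by
  have w' := congrArg (fun k => k.hom) w
  refine ⟨fun h => ⟨?_, ⟨hft', ?_⟩, ?_⟩, AlgSpFibDim.isProperMor_baseChange hcart⟩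
  · exact (AlgSpLoc.separated_thick_iff hi hj w' X.property X'.property Y.property Y'.property).1.1 h.1
  · exact (AlgSpLoc.quasiCompact_thick_iff hi hj w' X.property X'.property Y.property Y'.property).1 h.2.1.2
  · exact (AlgSpLoc.univClosed_thick_iff hi hj w' Y.property Y'.property).1 h.2.2

theorem isFiniteMor_thick_iff (hi : IsThickMor i.hom) (hj : IsThickMor j.hom) (w : i ≫ f' = f ≫ j)
    (hcart : IsPullback i.hom f.hom f'.hom j.hom) (hft' : LocP @LocallyOfFiniteType f'.hom) :
    IsFiniteMor f.hom ↔ IsFiniteMor f'.hom := by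
  have e : ∀ {A B : Space S} (g : A ⟶ B), IsFiniteMor g.hom ↔
      IsProperMor g.hom ∧ LocP (@LocallyQuasiFinite ⊓ @LocallyOfFiniteType) g.hom :=
    fun g => (S10649.result g).out 0 1
  rw [e, e, isProperMor_thick_iff hi hj w hcart hft',
    (S10593.result i j f f' hi hj w hcart (AlgSpc.locP_base_change X'.property Y'.property Y.property hcart hft') hft').1]

theorem closedImmersion_thick_iff (hi : IsThickMor i.hom) (hj : IsThickMor j.hom) (w : i ≫ f' = f ≫ j)
    (hcart : IsPullback i.hom f.hom f'.hom j.hom) (hft' : LocP @LocallyOfFiniteType f'.hom) :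
    RepWith @IsClosedImmersion f.hom ↔ RepWith @IsClosedImmersion f'.hom := by
  refine ⟨fun h => ?_, fun h => repWith_of_isPullback hcart h⟩
  have hfin : IsFiniteMor f.hom := (repWith_finite_iff f.hom).2
    (repWith_mono (Q := @IsFinite) (fun _ _ k (hk : IsClosedImmersion k) => inferInstance) h)
  exact repWith_of_thick (fun k _ s _ _ hk => haveI := hk; isClosedImmersion_of_thick k s) hj hcart hft'
    ((repWith_finite_iff f'.hom).1 ((isFiniteMor_thick_iff hi hj w hcart hft').1 hfin)).1 h

theorem immersion_thick_iff (hi : IsThickMor i.hom) (hj : IsThickMor j.hom) (w : i ≫ f' = f ≫ j)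
    (hcart : IsPullback i.hom f.hom f'.hom j.hom) (hft' : LocP @LocallyOfFiniteType f'.hom) :
    RepWith @IsImmersion f.hom ↔ RepWith @IsImmersion f'.hom := by
  refine ⟨fun h => ?_, fun h => repWith_of_isPullback hcart h⟩
  have hft := AlgSpc.locP_base_change X'.property Y'.property Y.property hcart hft'
  haveI : Mono f.hom := mono_of_repWith (fun _ _ k (hk : IsImmersion k) => inferInstance) h
  have hsep : IsSeparatedMor f.hom := repWith_iso (pullback.diagonal f.hom)
  have hlqf : LocP (@LocallyQuasiFinite ⊓ @LocallyOfFiniteType) f.hom :=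
    locP_of_repWith (P := @LocallyQuasiFinite ⊓ @LocallyOfFiniteType) EtLoc.precomp
      (repWith_mono (Q := @LocallyQuasiFinite ⊓ @LocallyOfFiniteType)
        (fun _ _ k (hk : IsImmersion k) => ⟨inferInstance, inferInstance⟩) h)
  have hrep := S10260.result f' ((S10593.result i j f f' hi hj w hcart hft hft').1.1 hlqf)
    ((AlgSpLoc.separated_thick_iff hi hj (congrArg (fun k => k.hom) w) X.property X'.property Y.property
      Y'.property).1.1 hsep)
  exact repWith_of_thick (fun k _ s _ _ hk => haveI := hk; isImmersion_of_thick k s) hj hcart hft' hrep h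

end Groth.Agent.AlgSpThickUnr
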